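/-
Frobenius' theorem on the number of solutions of `g ^ m = 1`.
* `mulEquivPairs` / `card_pow_mul_eq_sum` : for coprime `u, q`, `#{g ^ (u*q) = 1} = ∑_{z ^ u = 1} #{y ∈ C(z) | y ^ q = 1}`
* `dvd_sum_of_orbit` : divisibility of the sum of a conjugation invariant function
* `pow_dvd_card_pElements` : `|G|_p` divides the number of `p`-elements
* `totient_dvd_card_orderOf` : `φ n` divides the number of elements of order `n`
* `pow_dvd_card_pow_eq_one` , `dvd_card_pow_eq_one` (Frobenius)
-/
import Cfsg.Agent.EqLemmas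

namespace Cfsg.Agent.PowEqOne

variable {G : Type*} [Group G] [Finite G]

theorem exists_split {u q : ℕ} (h : u.Coprime q) :
    ∃ e f : ℕ, ∀ g : G, g ^ (u * q) = 1 → (g ^ e) ^ u = 1 ∧ (g ^ f) ^ q = 1 ∧ g ^ e * g ^ f = g ∧
      ∀ z y : G, Commute z y → z ^ u = 1 → y ^ q = 1 → z * y = g → g ^ e = z ∧ g ^ f = y := by
  obtain ⟨e, he1, he2⟩ := Nat.chineseRemainder h 1 0
  obtain ⟨f, hf1, hf2⟩ := Nat.chineseRemainder h 0 1
  refine ⟨e, f, fun g hg => ⟨?_, ?_, ?_, ?_⟩⟩
  · obtain ⟨c, hc⟩ := Nat.modEq_zero_iff_dvd.mp he2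
    rw [← pow_mul, hc, mul_comm, ← mul_assoc, pow_mul, hg, one_pow]
  · obtain ⟨c, hc⟩ := Nat.modEq_zero_iff_dvd.mp hf1
    rw [← pow_mul, hc, mul_right_comm, pow_mul, hg, one_pow]
  · rw [← pow_add]
    conv_rhs => rw [← pow_one g]
    refine pow_eq_pow_iff_modEq.mpr (Nat.ModEq.of_dvd (orderOf_dvd_of_pow_eq_one hg) ?_)
    exact (Nat.modEq_and_modEq_iff_modEq_mul h).mp ⟨by simpa using he1.add hf1, by simpa using he2.add hf2⟩
  · intro z y hc hz hy hzy
    subst hzy
    have aux : ∀ (x : G) (k a r : ℕ), x ^ k = 1 → a ≡ r [MOD k] → x ^ a = x ^ r := fun x k a r hx ha =>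
      pow_eq_pow_iff_modEq.mpr (ha.of_dvd (orderOf_dvd_of_pow_eq_one hx))
    rw [hc.mul_pow, hc.mul_pow, aux z u e 1 hz he1, aux z u f 0 hz hf1, aux y q e 0 hy he2, aux y q f 1 hy hf2]
    simp

omit [Finite G] in
theorem mem_centralizer_iff_commute {z y : G} : y ∈ Subgroup.centralizer ({z} : Set G) ↔ Commute z y := by
  rw [Subgroup.mem_centralizer_singleton_iff]; exact eq_comm

theorem card_pow_mul_eq_sum {u q : ℕ} (h : u.Coprime q) [Fintype {z : G // z ^ u = 1}] :
    Nat.card {g : G // g ^ (u * q) = 1} =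
      ∑ z : {z : G // z ^ u = 1}, Nat.card {y : Subgroup.centralizer ({(z : G)} : Set G) // y ^ q = 1} := by
  rw [← Nat.card_sigma]
  obtain ⟨e, f, hs⟩ := exists_split (G := G) h
  refine (Nat.card_congr ?_).symm
  refine
    { toFun := fun x => ⟨(x.1 : G) * (x.2.1 : G), ?_⟩
      invFun := fun g => ⟨⟨g.1 ^ e, (hs g.1 g.2).1⟩, ⟨⟨g.1 ^ f,
        mem_centralizer_iff_commute.mpr (Commute.pow_pow_self g.1 e f)⟩, Subtype.ext (hs g.1 g.2).2.1⟩⟩
      left_inv := ?_
      right_inv := fun g => Subtype.ext (hs g.1 g.2).2.2.1 }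
  · have hc : Commute (x.1 : G) (x.2.1 : G) := mem_centralizer_iff_commute.mp x.2.1.2
    rw [hc.mul_pow, pow_mul, x.1.2, one_pow, one_mul, mul_comm, pow_mul]
    have hy : (x.2.1 : G) ^ q = 1 := congrArg Subtype.val x.2.2
    rw [hy, one_pow]
  · rintro ⟨⟨z, hz⟩, ⟨⟨y, hy⟩, hyq⟩⟩
    have hc : Commute z y := mem_centralizer_iff_commute.mp hy
    have hyq' : y ^ q = 1 := congrArg Subtype.val hyq
    have hg : (z * y) ^ (u * q) = 1 := by
      rw [hc.mul_pow, pow_mul, hz, one_pow, one_mul, mul_comm, pow_mul, hyq', one_pow]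
    obtain ⟨h1, h2⟩ := (hs (z * y) hg).2.2.2 z y hc hz hyq' rfl
    have key : ∀ (z' y' : G) (p : z' ^ u = 1) (q' : y' ∈ Subgroup.centralizer ({z'} : Set G))
        (r : (⟨y', q'⟩ : Subgroup.centralizer ({z'} : Set G)) ^ q = 1), z' = z → y' = y →
        (⟨⟨z', p⟩, ⟨⟨y', q'⟩, r⟩⟩ : Σ w : {w : G // w ^ u = 1}, {v : Subgroup.centralizer ({(w : G)} : Set G) // v ^ q = 1}) =
          ⟨⟨z, hz⟩, ⟨⟨y, hy⟩, hyq⟩⟩ := by
      intro z' y' p q' r e1 e2
      subst e1 e2
      rfl
    exact key _ _ _ _ _ h1 h2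

omit [Finite G] in
theorem dvd_sum_of_orbit {A X : Type*} [Group A] [MulAction A X] [Fintype X] {d : ℕ} (f : X → ℕ)
    (hf : ∀ (a : A) (x : X), f (a • x) = f x) (h : ∀ x : X, d ∣ Nat.card (MulAction.orbit A x) * f x) :
    d ∣ ∑ x, f x := by
  classical
  rw [← Finset.sum_fiberwise Finset.univ (fun x => (Quotient.mk'' x : MulAction.orbitRel.Quotient A X)) f]
  refine Finset.dvd_sum (fun ω _ => ?_)
  induction ω using Quotient.inductionOn' with
  | h x =>
    have hfil : ∀ y, y ∈ Finset.univ.filter (fun y => (Quotient.mk'' y : MulAction.orbitRel.Quotient A X) = Quotient.mk'' x) ↔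
        y ∈ MulAction.orbit A x := by
      intro y
      rw [Finset.mem_filter]
      exact ⟨fun h => Quotient.eq''.mp h.2, fun h => ⟨Finset.mem_univ _, Quotient.eq''.mpr h⟩⟩
    rw [Finset.sum_const_nat (m := f x) (fun y hy => by
      obtain ⟨a, rfl⟩ := (hfil y).mp hy
      exact hf a x)]
    refine (h x).trans (dvd_of_eq ?_)
    rw [Nat.card_coe_set_eq, ← Set.ncard_coe_finset]
    congr 2
    ext y
    rw [Finset.mem_coe, hfil]

/-- conjugation on a set of elements given by a conjugation invariant condition -/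
@[reducible] def conjSubtype (P : G → Prop) (hP : ∀ a z, P z → P (a * z * a⁻¹)) : MulAction (ConjAct G) {z : G // P z} where
  smul a z := ⟨ConjAct.ofConjAct a * z.1 * (ConjAct.ofConjAct a)⁻¹, hP _ _ z.2⟩
  one_smul z := Subtype.ext (by
    show ConjAct.ofConjAct (1 : ConjAct G) * z.1 * (ConjAct.ofConjAct (1 : ConjAct G))⁻¹ = z.1
    simp)
  mul_smul a b z := Subtype.ext (by
    show ConjAct.ofConjAct (a * b) * z.1 * (ConjAct.ofConjAct (a * b))⁻¹ =
      ConjAct.ofConjAct a * (ConjAct.ofConjAct b * z.1 * (ConjAct.ofConjAct b)⁻¹) * (ConjAct.ofConjAct a)⁻¹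
    simp [mul_assoc])

theorem card_conj_orbit (P : G → Prop) (hP : ∀ a z, P z → P (a * z * a⁻¹)) (z : {z : G // P z}) :
    letI := conjSubtype P hP
    Nat.card (MulAction.orbit (ConjAct G) z) = (Subgroup.centralizer ({(z : G)} : Set G)).index := by
  letI := conjSubtype P hP
  rw [Nat.card_congr (MulAction.orbitEquivQuotientStabilizer (ConjAct G) z), ← Subgroup.index_eq_card]
  have e : MulAction.stabilizer (ConjAct G) z =
      (Subgroup.centralizer ({(z : G)} : Set G)).comap ConjAct.ofConjAct.toMonoidHom := by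
    ext g
    refine Iff.trans ?_ (Subgroup.mem_centralizer_singleton_iff (g := (z : G)) (k := ConjAct.ofConjAct g)).symm
    rw [← mul_inv_eq_iff_eq_mul]
    exact Subtype.ext_iff
  rw [e]
  exact Subgroup.index_comap_of_surjective _ (MulEquiv.surjective _)

theorem card_pow_conj (z : G) (a : G) (q : ℕ) :
    Nat.card {y : Subgroup.centralizer ({a * z * a⁻¹} : Set G) // y ^ q = 1} =
      Nat.card {y : Subgroup.centralizer ({z} : Set G) // y ^ q = 1} := by
  have hm : ∀ (b w : G) (y : Subgroup.centralizer ({w} : Set G)),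
      b * (y : G) * b⁻¹ ∈ Subgroup.centralizer ({b * w * b⁻¹} : Set G) := by
    intro b w y
    rw [mem_centralizer_iff_commute]
    exact (mem_centralizer_iff_commute.mp y.2).map (MulAut.conj b).toMonoidHom
  refine Nat.card_congr
    { toFun := fun y => ⟨⟨a⁻¹ * (y.1 : G) * a⁻¹⁻¹, by
        have := hm a⁻¹ _ y.1
        simpa [mul_assoc] using this⟩, Subtype.ext ?_⟩
      invFun := fun y => ⟨⟨a * (y.1 : G) * a⁻¹, hm a z y.1⟩, Subtype.ext ?_⟩
      left_inv := fun y => Subtype.ext (Subtype.ext (by group))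
      right_inv := fun y => Subtype.ext (Subtype.ext (by group)) }
  · have := congrArg Subtype.val y.2
    simp only [Subgroup.coe_pow, Subgroup.coe_one] at this ⊢
    rw [conj_pow, this, mul_one, mul_inv_cancel]
  · have := congrArg Subtype.val y.2
    simp only [Subgroup.coe_pow, Subgroup.coe_one] at this ⊢
    rw [conj_pow, this, mul_one, mul_inv_cancel]

/-- `|G|_p` divides the number of `p`-elements. -/
theorem pow_dvd_card_pElements {p : ℕ} (hp : p.Prime) :
    p ^ (Nat.card G).factorization p ∣ Nat.card {g : G // g ^ p ^ (Nat.card G).factorization p = 1} := by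
  induction hc : Nat.card G using Nat.strong_induction_on generalizing G with
  | _ n IH =>
  subst hc
  classical
  set c := (Nat.card G).factorization p
  obtain ⟨u, hu, hG⟩ : ∃ u, u.Coprime p ∧ Nat.card G = u * p ^ c :=
    ⟨Nat.card G / p ^ c, (Nat.coprime_ordCompl hp Nat.card_pos.ne').symm, ((mul_comm _ _).trans (Nat.ordProj_mul_ordCompl_eq_self _ _)).symm⟩
  letI : Fintype {z : G // z ^ u = 1} := Fintype.ofFinite _
  have hsum := card_pow_mul_eq_sum (G := G) (Nat.Coprime.pow_right c hu)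
  have htot : Nat.card {g : G // g ^ (u * p ^ c) = 1} = Nat.card G :=
    Nat.card_congr (Equiv.subtypeUnivEquiv (fun g => hG ▸ pow_card_eq_one'))
  rw [htot] at hsum
  set F : {z : G // z ^ u = 1} → ℕ :=
    fun z => Nat.card {y : Subgroup.centralizer ({(z : G)} : Set G) // y ^ p ^ c = 1} with hF
  have hP : ∀ a z : G, z ^ u = 1 → (a * z * a⁻¹) ^ u = 1 := fun a z hz => by
    rw [conj_pow, hz, mul_one, mul_inv_cancel]
  letI := conjSubtype (fun z : G => z ^ u = 1) hP
  have hnc : p ^ c ∣ ∑ z : {z : G // z ^ u = 1}, if (z : G) ∈ Subgroup.center G then 0 else F z := by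
    refine dvd_sum_of_orbit (A := ConjAct G) _ (fun a z => ?_) (fun z => ?_)
    · have hzc : ((a • z : {z : G // z ^ u = 1}) : G) ∈ Subgroup.center G ↔ (z : G) ∈ Subgroup.center G := by
        refine ⟨fun h => ?_, fun h => ?_⟩
        · have := (inferInstance : (Subgroup.center G).Normal).conj_mem _ h (ConjAct.ofConjAct a)⁻¹
          convert this using 1
          show (z : G) = (ConjAct.ofConjAct a)⁻¹ * (ConjAct.ofConjAct a * (z : G) * (ConjAct.ofConjAct a)⁻¹) *
            (ConjAct.ofConjAct a)⁻¹⁻¹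
          group
        · exact (inferInstance : (Subgroup.center G).Normal).conj_mem _ h _
      by_cases h : (z : G) ∈ Subgroup.center G
      · rw [if_pos h, if_pos (hzc.mpr h)]
      · rw [if_neg h, if_neg (fun h' => h (hzc.mp h'))]
        exact card_pow_conj _ _ _
    · by_cases h : (z : G) ∈ Subgroup.center G
      · rw [if_pos h, mul_zero]; exact dvd_zero _
      rw [if_neg h, card_conj_orbit]
      set C := Subgroup.centralizer ({(z : G)} : Set G)
      have hlt : Nat.card C < Nat.card G := by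
        refine C.card_le_card_group.lt_of_ne (fun e => h ?_)
        have hC := Subgroup.eq_top_of_card_eq C e
        rw [Subgroup.mem_center_iff]
        intro g
        exact Subgroup.mem_centralizer_singleton_iff.mp ((eq_top_iff.mp hC) (Subgroup.mem_top g))
      have hfac := congrArg (fun k : ℕ => k.factorization p) C.card_mul_index
      simp only [Nat.factorization_mul Nat.card_pos.ne' C.index_ne_zero_of_finite, Finsupp.add_apply] at hfac
      have hIH := IH _ hlt (G := C) rfl
      set c' := (Nat.card C).factorization p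
      have heq : Nat.card {y : C // y ^ p ^ c' = 1} = F z := by
        refine Nat.card_congr (Equiv.subtypeEquivRight (fun y => ⟨fun hy => ?_, fun hy => ?_⟩))
        · rw [show c = c' + (c - c') by omega, pow_add, pow_mul, hy, one_pow]
        · obtain ⟨j, -, hj⟩ := (Nat.dvd_prime_pow hp).mp (orderOf_dvd_of_pow_eq_one hy)
          refine orderOf_dvd_iff_pow_eq_one.mp (hj ▸ pow_dvd_pow p ?_)
          exact (hp.pow_dvd_iff_le_factorization Nat.card_pos.ne').mp (hj ▸ orderOf_dvd_natCard y)
      rw [heq] at hIH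
      refine Dvd.dvd.trans (dvd_of_eq ?_) (Nat.mul_dvd_mul (Nat.ordProj_dvd C.index p) hIH)
      rw [← pow_add]
      congr 1
      omega
  have hcen : ∑ z : {z : G // z ^ u = 1}, (if (z : G) ∈ Subgroup.center G then F z else 0) =
      Nat.card {z : G // z ^ u = 1 ∧ z ∈ Subgroup.center G} * Nat.card {g : G // g ^ p ^ c = 1} := by
    rw [← Finset.sum_filter, Finset.sum_const_nat (m := Nat.card {g : G // g ^ p ^ c = 1})]
    · congr 1
      rw [← Fintype.card_subtype, ← Nat.card_eq_fintype_card]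
      exact Nat.card_congr (Equiv.subtypeSubtypeEquivSubtypeInter (fun z : G => z ^ u = 1) (fun z => z ∈ Subgroup.center G))
    · intro z hz
      rw [Finset.mem_filter] at hz
      refine Nat.card_congr
        { toFun := fun y => ⟨y.1.1, by simpa using congrArg Subtype.val y.2⟩
          invFun := fun g => ⟨⟨g.1, mem_centralizer_iff_commute.mpr (Subgroup.mem_center_iff.mp hz.2 g.1).symm⟩,
            Subtype.ext g.2⟩
          left_inv := fun y => rfl
          right_inv := fun g => rfl }
  have hsplit : ∑ z : {z : G // z ^ u = 1}, F z = (∑ z : {z : G // z ^ u = 1}, if (z : G) ∈ Subgroup.center G then F z else 0) +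
      ∑ z : {z : G // z ^ u = 1}, (if (z : G) ∈ Subgroup.center G then 0 else F z) := by
    rw [← Finset.sum_add_distrib]
    exact Finset.sum_congr rfl (fun z _ => by split_ifs <;> simp)
  have h1 : p ^ c ∣ ∑ z : {z : G // z ^ u = 1}, F z := by rw [← hsum]; exact Nat.ordProj_dvd _ _
  rw [hsplit, ← Nat.dvd_add_iff_left hnc, hcen] at h1
  refine (Nat.Coprime.dvd_of_dvd_mul_left ?_ h1)
  refine Nat.Coprime.pow_left c (hp.coprime_iff_not_dvd.mpr (fun hd => ?_))
  -- the central solutions of `z ^ u = 1` form a group of order prime to `p`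
  let Z : Subgroup G :=
    { carrier := {z | z ^ u = 1 ∧ z ∈ Subgroup.center G}
      one_mem' := ⟨one_pow u, one_mem _⟩
      mul_mem' := fun {a b} ha hb => ⟨by
        rw [(show Commute a b from Subgroup.mem_center_iff.mp hb.2 a).mul_pow, ha.1, hb.1, one_mul], mul_mem ha.2 hb.2⟩
      inv_mem' := fun {a} ha => ⟨by rw [inv_pow, ha.1, inv_one], inv_mem ha.2⟩ }
  haveI := Fact.mk hp
  obtain ⟨x, hx⟩ := exists_prime_orderOf_dvd_card' (G := Z) p hd
  have : p ∣ u := by
    rw [← hx]
    exact orderOf_dvd_of_pow_eq_one (Subtype.ext x.2.1)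
  exact hp.not_dvd_one (hu.symm.gcd_eq_one ▸ Nat.dvd_gcd dvd_rfl this)

theorem totient_dvd_card_orderOf (n : ℕ) : Nat.totient n ∣ Nat.card {g : G // orderOf g = n} := by
  classical
  letI : Fintype G := Fintype.ofFinite G
  letI : Fintype (Subgroup G) := Fintype.ofFinite _
  rw [Nat.card_congr (Equiv.sigmaFiberEquiv (fun g : {g : G // orderOf g = n} => Subgroup.zpowers (g : G))).symm,
    Nat.card_sigma]
  refine Finset.dvd_sum (fun C _ => ?_)
  rcases isEmpty_or_nonempty {g : {g : G // orderOf g = n} // Subgroup.zpowers (g : G) = C} with h | ⟨⟨x, hx⟩, hC⟩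
  · simp
  · subst hC
    refine dvd_of_eq ?_
    have hcard : Fintype.card (Subgroup.zpowers x) = n := by rw [← Nat.card_eq_fintype_card, Nat.card_zpowers, hx]
    rw [← IsCyclic.card_orderOf_eq_totient (α := Subgroup.zpowers x) (d := n) (by rw [hcard]),
      ← Fintype.card_subtype, ← Nat.card_eq_fintype_card]
    refine Nat.card_congr
      { toFun := fun g => ⟨⟨(g.1 : G), ?_⟩, ?_⟩
        invFun := fun g => ⟨⟨g.1.1, Eq.mp (congrArg (fun K : Subgroup G => g.1.1 ∈ K) g.2) (Subgroup.mem_zpowers _)⟩,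
          by rw [← orderOf_submonoid]; exact g.1.2⟩
        left_inv := fun g => rfl
        right_inv := fun g => rfl }
    · rw [orderOf_submonoid]; exact g.2
    · show Subgroup.zpowers (g.1 : G) = _
      refine Subgroup.eq_of_le_of_card_ge (Subgroup.zpowers_le.mpr g.1.2) (le_of_eq ?_)
      rw [Nat.card_zpowers, Nat.card_zpowers, hx, orderOf_submonoid, g.2]

/-- the `p`-part of Frobenius' theorem -/
theorem pow_dvd_card_pow_eq_one {p : ℕ} (hp : p.Prime) (a : ℕ) (ha : a ≤ (Nat.card G).factorization p) :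
    p ^ a ∣ Nat.card {g : G // g ^ p ^ a = 1} := by
  classical
  letI : Fintype G := Fintype.ofFinite G
  obtain ⟨d, hd⟩ : ∃ d, (Nat.card G).factorization p = a + d := ⟨_, (Nat.add_sub_of_le ha).symm⟩
  induction d generalizing a with
  | zero => rw [add_zero] at hd; rw [← hd]; exact pow_dvd_card_pElements hp
  | succ d ih =>
    have h1 := ih (a + 1) (by omega) (by omega)
    have h2 : Nat.card {g : G // g ^ p ^ (a + 1) = 1} =
        Nat.card {g : G // g ^ p ^ a = 1} + Nat.card {g : G // orderOf g = p ^ (a + 1)} := by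
      rw [← Nat.card_sum]
      refine Nat.card_congr (((Equiv.subtypeEquivRight (fun g => ?_))).trans
        (subtypeOrEquiv _ _ (Pi.disjoint_iff.mpr (fun g => Prop.disjoint_iff.mpr ?_))))
      · rw [← orderOf_dvd_iff_pow_eq_one, ← orderOf_dvd_iff_pow_eq_one]
        constructor
        · intro h
          obtain ⟨j, hj, hje⟩ := (Nat.dvd_prime_pow hp).mp h
          rcases Nat.lt_or_eq_of_le hj with h' | h'
          · exact Or.inl (hje ▸ pow_dvd_pow p (by omega))
          · exact Or.inr (h' ▸ hje)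
        · rintro (h | h)
          · exact h.trans (pow_dvd_pow p (by omega))
          · exact h.dvd
      · rintro ⟨hA, hB⟩
        have := hB ▸ orderOf_dvd_of_pow_eq_one hA
        have := (Nat.pow_dvd_pow_iff_le_right hp.one_lt).mp this
        omega
    have h3 : p ^ a ∣ Nat.card {g : G // orderOf g = p ^ (a + 1)} := by
      refine Dvd.dvd.trans ?_ (totient_dvd_card_orderOf (p ^ (a + 1)))
      rw [Nat.totient_prime_pow_succ hp]
      exact dvd_mul_right _ _
    have h4 := (pow_dvd_pow p (Nat.le_succ a)).trans h1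
    rw [h2] at h4
    exact (Nat.dvd_add_iff_left h3).mpr h4

/-- Frobenius: `m ∣ |G|` divides the number of solutions of `g ^ m = 1`. -/
theorem dvd_card_pow_eq_one {m : ℕ} (hm : m ∣ Nat.card G) : m ∣ Nat.card {g : G // g ^ m = 1} := by
  classical
  have hm0 : m ≠ 0 := fun e => Nat.card_pos.ne' (eq_zero_of_zero_dvd (e ▸ hm))
  refine (Nat.dvd_iff_prime_pow_dvd_dvd _ _).mpr (fun p k hp hk => (pow_dvd_pow p
    ((hp.pow_dvd_iff_le_factorization hm0).mp hk)).trans ?_)
  set a := m.factorization p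
  obtain ⟨u, hu, hmu⟩ : ∃ u, u.Coprime p ∧ m = u * p ^ a :=
    ⟨m / p ^ a, (Nat.coprime_ordCompl hp hm0).symm, ((mul_comm _ _).trans (Nat.ordProj_mul_ordCompl_eq_self _ _)).symm⟩
  letI : Fintype {z : G // z ^ u = 1} := Fintype.ofFinite _
  rw [hmu, card_pow_mul_eq_sum (Nat.Coprime.pow_right a hu)]
  have hP : ∀ b z : G, z ^ u = 1 → (b * z * b⁻¹) ^ u = 1 := fun b z hz => by
    rw [conj_pow, hz, mul_one, mul_inv_cancel]
  letI := conjSubtype (fun z : G => z ^ u = 1) hP
  refine dvd_sum_of_orbit (A := ConjAct G) _ (fun b z => card_pow_conj _ _ _) (fun z => ?_)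
  rw [card_conj_orbit]
  set C := Subgroup.centralizer ({(z : G)} : Set G)
  have hfac := congrArg (fun k : ℕ => k.factorization p) C.card_mul_index
  simp only [Nat.factorization_mul Nat.card_pos.ne' C.index_ne_zero_of_finite, Finsupp.add_apply] at hfac
  have hle : a ≤ (Nat.card G).factorization p :=
    (Nat.factorization_le_iff_dvd hm0 Nat.card_pos.ne').mpr hm p
  rcases le_or_gt a ((Nat.card C).factorization p) with h | h
  · exact Dvd.dvd.mul_left (pow_dvd_card_pow_eq_one hp a h) _
  · have h1 : Nat.card {y : C // y ^ p ^ a = 1} = Nat.card {y : C // y ^ p ^ (Nat.card C).factorization p = 1} := by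
      refine Nat.card_congr (Equiv.subtypeEquivRight (fun y => ⟨fun hy => ?_, fun hy => ?_⟩))
      · obtain ⟨j, -, hj⟩ := (Nat.dvd_prime_pow hp).mp (orderOf_dvd_of_pow_eq_one hy)
        refine orderOf_dvd_iff_pow_eq_one.mp (hj ▸ pow_dvd_pow p ?_)
        exact (hp.pow_dvd_iff_le_factorization Nat.card_pos.ne').mp (hj ▸ orderOf_dvd_natCard y)
      · rw [show a = (Nat.card C).factorization p + (a - (Nat.card C).factorization p) by omega, pow_add, pow_mul, hy,
          one_pow]
    rw [h1]
    refine Dvd.dvd.trans ?_ (Nat.mul_dvd_mul (Nat.ordProj_dvd C.index p) (pow_dvd_card_pElements hp))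
    rw [← pow_add]
    exact pow_dvd_pow p (by omega)

end Cfsg.Agent.PowEqOne
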