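import Cfsg.Agent.Lib.PowEqOne.Split

/-!
# Roots of a central element (helper76)

* `card_preimage_pow` : `#{z | z ^ m ∈ N} = |N| * #{w ∈ G ⧸ N | w ^ m = 1}`
* `pow_dvd_card_pow_eq_central` : `p ^ min b v ∣ #{z | z ^ p ^ b = c}` for a central `p`-element `c`
* `gcd_dvd_card_pow_eq_central` : `gcd n |G| ∣ #{x | x ^ n = c}` for central `c`
-/

set_option autoImplicit false
set_option linter.style.haveILetI false
set_option linter.unusedSectionVars false

namespace Cfsg.Agent.PowEqOne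

open Subgroup

variable {G : Type*} [Group G] [Finite G]

theorem card_preimage_pow (N : Subgroup G) [N.Normal] (m : ℕ) :
    Nat.card {z : G // z ^ m ∈ N} = Nat.card N * Nat.card {w : G ⧸ N // w ^ m = 1} := by
  have h : {z : G | z ^ m ∈ N} = QuotientGroup.mk ⁻¹' {w : G ⧸ N | w ^ m = 1} := by
    ext z
    rw [Set.mem_setOf_eq, Set.mem_preimage, Set.mem_setOf_eq, ← QuotientGroup.mk_pow, QuotientGroup.eq_one_iff]
  rw [← Nat.card_prod]
  exact Nat.card_congr ((Equiv.setCongr h).trans (QuotientGroup.preimageMkEquivSubgroupProdSet N _))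

theorem card_pow_eq_pow {p i N q : ℕ} (hp : p.Prime) (hi : ¬ p ∣ i) (hN : N ≠ 0) {c : G}
    (hkill : ∀ z : G, z ^ q = c ∨ z ^ q = c ^ i → z ^ p ^ N = 1) (hcN : c ^ p ^ N = 1) :
    Nat.card {z : G // z ^ q = c} = Nat.card {z : G // z ^ q = c ^ i} := by
  obtain ⟨j, -, hj⟩ := Nat.exists_mul_mod_eq_one_of_coprime ((hp.coprime_iff_not_dvd.mpr hi).symm.pow_right N)
    (Nat.one_lt_pow hN hp.one_lt)
  have hinv : ∀ z : G, z ^ p ^ N = 1 → z ^ (i * j) = z := by
    intro z hz
    conv_rhs => rw [← pow_one z]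
    refine pow_eq_pow_iff_modEq.mpr (Nat.ModEq.of_dvd (orderOf_dvd_of_pow_eq_one hz) ?_)
    unfold Nat.ModEq
    rw [hj, Nat.one_mod_eq_one.mpr (Nat.one_lt_pow hN hp.one_lt).ne']
  refine Nat.card_congr
    { toFun := fun z => ⟨(z : G) ^ i, by rw [pow_right_comm, z.2]⟩
      invFun := fun z => ⟨(z : G) ^ j, by rw [pow_right_comm, z.2, ← pow_mul, hinv c hcN]⟩
      left_inv := fun z => Subtype.ext ?_
      right_inv := fun z => Subtype.ext ?_ }
  · show ((z : G) ^ i) ^ j = (z : G)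
    rw [← pow_mul, hinv _ (hkill _ (Or.inl z.2))]
  · show ((z : G) ^ j) ^ i = (z : G)
    rw [pow_right_comm, ← pow_mul, hinv _ (hkill _ (Or.inr z.2))]

theorem pow_dvd_card_pow_eq_central {p : ℕ} (hp : p.Prime) (b : ℕ) {c : G} (hc : c ∈ center G) {s : ℕ}
    (hs : orderOf c = p ^ s) :
    p ^ min b ((Nat.card G).factorization p) ∣ Nat.card {z : G // z ^ p ^ b = c} := by
  classical
  haveI := Fact.mk hp
  set v := (Nat.card G).factorization p with hv
  rcases s with _ | s
  · rw [pow_zero, orderOf_eq_one_iff] at hs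
    subst hs
    rcases le_total b v with h | h
    · rw [min_eq_left h]
      exact dvd_card_pow_eq_one ((pow_dvd_pow p h).trans (Nat.ordProj_dvd _ _))
    · rw [min_eq_right h]
      have he : Nat.card {z : G // z ^ p ^ b = 1} = Nat.card {z : G // z ^ p ^ v = 1} := by
        refine Nat.card_congr (Equiv.subtypeEquivRight fun z => ⟨fun hz => ?_, fun hz => ?_⟩)
        · obtain ⟨j, -, hj⟩ := (Nat.dvd_prime_pow hp).mp (orderOf_dvd_of_pow_eq_one hz)
          refine orderOf_dvd_iff_pow_eq_one.mp (hj ▸ pow_dvd_pow p ?_)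
          exact (hp.pow_dvd_iff_le_factorization Nat.card_pos.ne').mp (hj ▸ orderOf_dvd_natCard z)
        · rw [← Nat.add_sub_cancel' h, pow_add, pow_mul, hz, one_pow]
      rw [he]
      exact pow_dvd_card_pElements hp
  rcases isEmpty_or_nonempty {z : G // z ^ p ^ b = c} with he | ⟨⟨z₀, hz₀⟩⟩
  · simp
  -- a solution forces room in `G`
  have hroom : b + (s + 1) ≤ v := by
    obtain ⟨j, hj1, hj⟩ := (Nat.dvd_prime_pow hp).mp (show orderOf z₀ ∣ p ^ (b + (s + 1)) by
      rw [orderOf_dvd_iff_pow_eq_one, pow_add, pow_mul, hz₀, ← hs, pow_orderOf_eq_one])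
    have hjv : j ≤ v := (hp.pow_dvd_iff_le_factorization Nat.card_pos.ne').mp (hj ▸ orderOf_dvd_natCard z₀)
    have hjb : b + (s + 1) ≤ j := by
      by_contra hlt
      push Not at hlt
      have h1 : c ^ p ^ s = 1 := by
        rw [← hz₀, ← pow_mul, ← pow_add, ← orderOf_dvd_iff_pow_eq_one, hj]
        exact pow_dvd_pow p (by omega)
      have h2 := orderOf_dvd_of_pow_eq_one h1
      rw [hs] at h2
      exact absurd ((Nat.pow_dvd_pow_iff_le_right hp.one_lt).mp h2) (by omega)
    omega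
  rw [min_eq_left (by omega)]
  set Z := zpowers c with hZ
  set Z' := zpowers (c ^ p) with hZ'
  have hnorm : ∀ W : Subgroup G, W ≤ center G → W.Normal := fun W hW => ⟨fun n hn g => by
    rw [mem_center_iff.mp (hW hn) g, mul_inv_cancel_right]; exact hn⟩
  haveI := hnorm Z (zpowers_le.mpr hc)
  haveI := hnorm Z' (zpowers_le.mpr (pow_mem hc p))
  have hZcard : Nat.card Z = p ^ (s + 1) := by rw [Nat.card_zpowers, hs]
  have hZ'card : Nat.card Z' = p ^ s := by
    rw [Nat.card_zpowers, orderOf_pow, hs, pow_succ', Nat.gcd_eq_right (dvd_mul_right p _),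
      Nat.mul_div_cancel_left _ hp.pos]
  have hdiv : ∀ (W : Subgroup G) [W.Normal] (e : ℕ), Nat.card W = p ^ e → e ≤ s + 1 →
      p ^ e * p ^ b ∣ Nat.card {z : G // z ^ p ^ b ∈ W} := by
    intro W _ e he hle
    rw [card_preimage_pow, he]
    refine mul_dvd_mul_left _ (dvd_card_pow_eq_one ?_)
    have h1 : p ^ (e + b) ∣ Nat.card W * Nat.card (G ⧸ W) := by
      rw [← Subgroup.index_eq_card, Subgroup.card_mul_index]
      exact (pow_dvd_pow p (by omega)).trans (Nat.ordProj_dvd _ _)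
    rw [he, pow_add] at h1
    exact Nat.dvd_of_mul_dvd_mul_left (pow_pos hp.pos e) h1
  have hsum : Nat.card {z : G // z ^ p ^ b ∈ Z} = Nat.card {z : G // z ^ p ^ b ∈ Z'} +
      Nat.card {z : G // orderOf (z ^ p ^ b) = p ^ (s + 1) ∧ z ^ p ^ b ∈ Z} := by
    have hle : Z' ≤ Z := zpowers_le.mpr (pow_mem (mem_zpowers c) p)
    rw [← Nat.card_sum]
    refine Nat.card_congr ((Equiv.subtypeEquivRight fun z => ?_).trans
      (subtypeOrEquiv _ _ (Pi.disjoint_iff.mpr fun z => Prop.disjoint_iff.mpr ?_)))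
    · constructor
      · intro hz
        by_cases ho : orderOf (z ^ p ^ b) = p ^ (s + 1)
        · exact Or.inr ⟨ho, hz⟩
        · refine Or.inl ?_
          obtain ⟨i, hi⟩ := mem_zpowers_iff.mp hz
          by_cases hd : (p : ℤ) ∣ i
          · obtain ⟨i', rfl⟩ := hd
            exact ⟨i', by rw [← hi]; simp [zpow_mul]⟩
          · exfalso
            apply ho
            obtain ⟨u, w, huw⟩ := ((Nat.prime_iff_prime_int.mp hp).irreducible.coprime_iff_not_dvd.mpr hd).pow_left (m := s + 1)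
            have hgen : c ∈ zpowers (z ^ p ^ b) := by
              refine ⟨w, ?_⟩
              show (z ^ p ^ b) ^ w = c
              have h1 : c ^ ((p : ℤ) ^ (s + 1)) = 1 := by
                rw [← Nat.cast_pow, zpow_natCast, ← hs, pow_orderOf_eq_one]
              have h2 := congrArg (fun t : ℤ => c ^ t) huw
              simp only [zpow_one] at h2
              rw [zpow_add, mul_comm u, zpow_mul, h1, one_zpow, one_mul, mul_comm, zpow_mul, hi] at h2
              exact h2
            have heq : zpowers (z ^ p ^ b) = Z := le_antisymm (zpowers_le.mpr hz) (zpowers_le.mpr hgen)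
            rw [← Nat.card_zpowers, heq, hZcard]
      · rintro (h | h)
        · exact hle h
        · exact h.2
    · rintro ⟨h1, h2, -⟩
      have := Subgroup.orderOf_dvd_natCard Z' h1
      rw [h2, hZ'card] at this
      exact absurd ((Nat.pow_dvd_pow_iff_le_right hp.one_lt).mp this) (by omega)
  haveI : Fintype {w : G // orderOf w = p ^ (s + 1) ∧ w ∈ Z} := Fintype.ofFinite _
  have hgens : Nat.card {z : G // orderOf (z ^ p ^ b) = p ^ (s + 1) ∧ z ^ p ^ b ∈ Z} =
      Nat.card {w : G // orderOf w = p ^ (s + 1) ∧ w ∈ Z} * Nat.card {z : G // z ^ p ^ b = c} := by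
    rw [Nat.card_congr (Equiv.sigmaFiberEquiv (fun z : {z : G // orderOf (z ^ p ^ b) = p ^ (s + 1) ∧ z ^ p ^ b ∈ Z} =>
      (⟨(z : G) ^ p ^ b, z.2⟩ : {w : G // orderOf w = p ^ (s + 1) ∧ w ∈ Z}))).symm, Nat.card_sigma,
      Finset.sum_const_nat (m := Nat.card {z : G // z ^ p ^ b = c}) fun w _ => ?_, Finset.card_univ,
      ← Nat.card_eq_fintype_card]
    -- a fibre is a power image of the solutions for `c`
    obtain ⟨w, hwo, hwZ⟩ := w
    obtain ⟨i, hi⟩ : ∃ i : ℕ, c ^ i = w := by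
      have := hwZ
      rwa [hZ, ← mem_powers_iff_mem_zpowers, Submonoid.mem_powers_iff] at this
    have hip : ¬ p ∣ i := by
      rintro ⟨i', rfl⟩
      have h1 : w ^ p ^ s = 1 := by
        rw [← hi, ← pow_mul, show p * i' * p ^ s = p ^ (s + 1) * i' by ring, pow_mul, ← hs, pow_orderOf_eq_one, one_pow]
      have h2 := orderOf_dvd_of_pow_eq_one h1
      rw [hwo] at h2
      exact absurd ((Nat.pow_dvd_pow_iff_le_right hp.one_lt).mp h2) (by omega)
    rw [card_pow_eq_pow hp hip (N := b + (s + 1)) (q := p ^ b) (by omega) (fun z hz => ?_) (c := c)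
      (by rw [pow_add, mul_comm, pow_mul, ← hs, pow_orderOf_eq_one, one_pow])]
    · rw [hi]
      exact Nat.card_congr
        { toFun := fun z => ⟨(z.1 : G), congrArg Subtype.val z.2⟩
          invFun := fun z => ⟨⟨(z : G), by rw [z.2]; exact ⟨hwo, hwZ⟩⟩, Subtype.ext z.2⟩
          left_inv := fun z => Subtype.ext (Subtype.ext rfl)
          right_inv := fun z => rfl }
    · rcases hz with hz | hz
      · rw [pow_add, pow_mul, hz, ← hs, pow_orderOf_eq_one]
      · rw [pow_add, pow_mul, hz, hi, ← hwo, pow_orderOf_eq_one]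
  -- `φ(p^(s+1))` generators
  have hphi : Nat.card {w : G // orderOf w = p ^ (s + 1) ∧ w ∈ Z} = p ^ s * (p - 1) := by
    have e1 : Nat.card {w : G // orderOf w = p ^ (s + 1) ∧ w ∈ Z} = Nat.card {w : Z // orderOf w = p ^ (s + 1)} :=
      Nat.card_congr
        { toFun := fun w => ⟨⟨w, w.2.2⟩, by rw [Subgroup.orderOf_mk]; exact w.2.1⟩
          invFun := fun w => ⟨w.1, by rw [Subgroup.orderOf_coe]; exact w.2, w.1.2⟩
          left_inv := fun w => rfl
          right_inv := fun w => rfl }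
    letI : Fintype Z := Fintype.ofFinite Z
    rw [e1, Nat.card_eq_fintype_card, Fintype.card_subtype,
      IsCyclic.card_orderOf_eq_totient (by rw [← Nat.card_eq_fintype_card, hZcard]),
      Nat.totient_prime_pow_succ hp]
  have h1 := hdiv Z (s + 1) hZcard le_rfl
  have h2 := hdiv Z' s hZ'card (by omega)
  rw [hsum, hgens, hphi] at h1
  have h3 : p ^ s * p ^ b ∣ p ^ s * ((p - 1) * Nat.card {z : G // z ^ p ^ b = c}) := by
    rw [← mul_assoc]
    exact (Nat.dvd_add_right h2).mp (dvd_trans (mul_dvd_mul_right (pow_dvd_pow p (Nat.le_succ s)) _) h1)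
  refine Nat.Coprime.dvd_of_dvd_mul_left ?_ (Nat.dvd_of_mul_dvd_mul_left (pow_pos hp.pos s) h3)
  refine (hp.coprime_iff_not_dvd.mpr fun (hd : p ∣ p - 1) => ?_).pow_left b
  have h2 := hp.two_le
  have := Nat.le_of_dvd (by omega) hd
  omega

/-- The number of `n`-th roots of a central element is divisible by `gcd n |G|`. -/
theorem gcd_dvd_card_pow_eq_central {n : ℕ} (hn : n ≠ 0) {c : G} (hc : c ∈ center G) :
    Nat.gcd n (Nat.card G) ∣ Nat.card {x : G // x ^ n = c} := by
  classical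
  refine (Nat.dvd_iff_prime_pow_dvd_dvd _ _).mpr fun p k hp hk => ?_
  haveI := Fact.mk hp
  set v := (Nat.card G).factorization p with hv
  set b := n.factorization p with hb
  set m := n / p ^ b with hm
  have hn' : p ^ b * m = n := Nat.ordProj_mul_ordCompl_eq_self _ _
  have hmp : ¬ p ∣ m := Nat.not_dvd_ordCompl hp hn
  have hkb : k ≤ min b v := le_min
    ((hp.pow_dvd_iff_le_factorization hn).mp (hk.trans (Nat.gcd_dvd_left _ _)))
    ((hp.pow_dvd_iff_le_factorization Nat.card_pos.ne').mp (hk.trans (Nat.gcd_dvd_right _ _)))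
  obtain ⟨u, hu, hG⟩ : ∃ u, u.Coprime p ∧ Nat.card G = u * p ^ v :=
    ⟨Nat.card G / p ^ v, (Nat.coprime_ordCompl hp Nat.card_pos.ne').symm,
      ((mul_comm _ _).trans (Nat.ordProj_mul_ordCompl_eq_self _ _)).symm⟩
  have hco : u.Coprime (p ^ v) := hu.pow_right v
  obtain ⟨e, f, hs⟩ := exists_split (G := G) hco
  have hall : ∀ g : G, g ^ (u * p ^ v) = 1 := fun g => by rw [← hG]; exact pow_card_eq_one'
  obtain ⟨hc1, hc2, hc12, -⟩ := hs c (hall c)
  have hpe : ∀ a y : G, y ^ u = 1 ∧ y ^ n = c ^ e → (a * y * a⁻¹) ^ u = 1 ∧ (a * y * a⁻¹) ^ n = c ^ e := fun a y hy => by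
    rw [conj_pow, conj_pow, hy.1, hy.2, mul_one, mul_inv_cancel,
      mem_center_iff.mp (pow_mem hc e) a, mul_inv_cancel_right]
    exact ⟨rfl, rfl⟩
  let F : G → ℕ := fun y => Nat.card {z : G // z ∈ centralizer ({y} : Set G) ∧ z ^ p ^ v = 1 ∧ z ^ n = c ^ f}
  letI : Fintype {y : G // y ^ u = 1 ∧ y ^ n = c ^ e} := Fintype.ofFinite _
  have hcard : Nat.card {x : G // x ^ n = c} = ∑ y : {y : G // y ^ u = 1 ∧ y ^ n = c ^ e}, F y := by
    rw [← Nat.card_sigma]
    refine Nat.card_congr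
      { toFun := fun x => ⟨⟨(x : G) ^ e, (hs _ (hall _)).1, by rw [pow_right_comm, x.2]⟩,
          ⟨(x : G) ^ f, mem_centralizer_iff_commute.mpr (Commute.pow_pow_self (x : G) e f), (hs _ (hall _)).2.1,
            by rw [pow_right_comm, x.2]⟩⟩
        invFun := fun w => ⟨(w.1 : G) * (w.2 : G), by
          rw [(show Commute (w.1 : G) (w.2 : G) from mem_centralizer_iff_commute.mp w.2.2.1).mul_pow, w.1.2.2, w.2.2.2.2, hc12]⟩
        left_inv := fun x => Subtype.ext (hs _ (hall _)).2.2.1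
        right_inv := ?_ }
    rintro ⟨⟨y, hy⟩, ⟨z, hz⟩⟩
    obtain ⟨h1, h2⟩ := (hs (y * z) (hall _)).2.2.2 y z (mem_centralizer_iff_commute.mp hz.1) hy.1 hz.2.1 rfl
    have key : ∀ (y' z' : G) (P : y' ^ u = 1 ∧ y' ^ n = c ^ e)
        (R : z' ∈ centralizer ({y'} : Set G) ∧ z' ^ p ^ v = 1 ∧ z' ^ n = c ^ f), y' = y → z' = z →
        (⟨⟨y', P⟩, ⟨z', R⟩⟩ : Σ w : {y : G // y ^ u = 1 ∧ y ^ n = c ^ e},
          {z : G // z ∈ centralizer ({(w : G)} : Set G) ∧ z ^ p ^ v = 1 ∧ z ^ n = c ^ f}) = ⟨⟨y, hy⟩, ⟨z, hz⟩⟩ := by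
      intro y' z' P R e1 e2
      subst e1 e2
      rfl
    exact key _ _ _ _ h1 h2
  rw [hcard]
  letI := conjSubtype (fun y : G => y ^ u = 1 ∧ y ^ n = c ^ e) hpe
  refine dvd_sum_of_orbit (A := ConjAct G) _ (fun a y => ?_) fun y => ?_
  · have hm : ∀ (a y z : G), z ∈ centralizer ({y} : Set G) → a * z * a⁻¹ ∈ centralizer ({a * y * a⁻¹} : Set G) :=
      fun a y z hz => mem_centralizer_iff_commute.mpr
        ((mem_centralizer_iff_commute.mp hz).map (MulAut.conj a).toMonoidHom)
    refine Nat.card_congr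
      { toFun := fun z => ⟨(ConjAct.ofConjAct a)⁻¹ * (z : G) * (ConjAct.ofConjAct a)⁻¹⁻¹, ?_, ?_, ?_⟩
        invFun := fun z => ⟨ConjAct.ofConjAct a * (z : G) * (ConjAct.ofConjAct a)⁻¹, hm _ _ _ z.2.1, ?_, ?_⟩
        left_inv := fun z => Subtype.ext (by group)
        right_inv := fun z => Subtype.ext (by group) }
    · have := hm (ConjAct.ofConjAct a)⁻¹ _ _ z.2.1
      convert this using 3
      show _ = (ConjAct.ofConjAct a)⁻¹ * (ConjAct.ofConjAct a * (y : G) * (ConjAct.ofConjAct a)⁻¹) * _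
      group
    · rw [conj_pow, z.2.2.1, mul_one, mul_inv_cancel]
    · rw [conj_pow, z.2.2.2, mem_center_iff.mp (pow_mem hc f), mul_inv_cancel_right]
    · rw [conj_pow, z.2.2.1, mul_one, mul_inv_cancel]
    · rw [conj_pow, z.2.2.2, mem_center_iff.mp (pow_mem hc f), mul_inv_cancel_right]
  · rw [card_conj_orbit]
    set D := centralizer ({(y : G)} : Set G) with hD
    set vD := (Nat.card D).factorization p with hvD
    have hfac := congrArg (fun k : ℕ => k.factorization p) D.card_mul_index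
    simp only [Nat.factorization_mul Nat.card_pos.ne' D.index_ne_zero_of_finite, Finsupp.add_apply] at hfac
    obtain ⟨j, -, hj⟩ := (Nat.dvd_prime_pow hp).mp (orderOf_dvd_of_pow_eq_one hc2)
    have hcfD : c ^ f ∈ D := mem_centralizer_iff_commute.mpr (mem_center_iff.mp (pow_mem hc f) (y : G))
    have hcfc : (⟨c ^ f, hcfD⟩ : D) ∈ center D := mem_center_iff.mpr fun w =>
      Subtype.ext (mem_center_iff.mp (pow_mem hc f) (w : G))
    obtain ⟨m', hm'⟩ : ∃ m', m * m' ≡ 1 [MOD p ^ (v + 1)] :=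
      (Nat.exists_mul_mod_eq_one_of_coprime ((hp.coprime_iff_not_dvd.mpr hmp).symm.pow_right (v + 1))
        (Nat.one_lt_pow (by omega) hp.one_lt)).imp fun m' h => by
          unfold Nat.ModEq; rw [h.2, Nat.one_mod_eq_one.mpr (Nat.one_lt_pow (by omega) hp.one_lt).ne']
    have hinv : ∀ z : G, z ^ p ^ v = 1 → (z ^ m) ^ m' = z := by
      intro z hz
      rw [← pow_mul]
      conv_rhs => rw [← pow_one z]
      exact pow_eq_pow_iff_modEq.mpr
        (hm'.of_dvd ((orderOf_dvd_of_pow_eq_one hz).trans (pow_dvd_pow p (Nat.le_succ v))))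
    have hproot : ∀ z : G, z ^ p ^ b = c ^ f → z ^ p ^ v = 1 := by
      intro z hz
      have h1 : orderOf z ∣ p ^ (b + j) := by
        rw [orderOf_dvd_iff_pow_eq_one, pow_add, pow_mul, hz, ← hj, pow_orderOf_eq_one]
      obtain ⟨i, -, hi⟩ := (Nat.dvd_prime_pow hp).mp h1
      exact orderOf_dvd_iff_pow_eq_one.mp (hi ▸ pow_dvd_pow p
        ((hp.pow_dvd_iff_le_factorization Nat.card_pos.ne').mp (hi ▸ orderOf_dvd_natCard z)))
    have hF : F y = Nat.card {w : D // w ^ p ^ b = ⟨c ^ f, hcfD⟩} := by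
      refine Nat.card_congr
        { toFun := fun z => ⟨⟨(z : G) ^ m, pow_mem z.2.1 m⟩, Subtype.ext ?_⟩
          invFun := fun w => ⟨(w.1 : G) ^ m', pow_mem w.1.2 m', ?_, ?_⟩
          left_inv := fun z => Subtype.ext (hinv _ z.2.2.1)
          right_inv := fun w => Subtype.ext (Subtype.ext ?_) }
      · show ((z : G) ^ m) ^ p ^ b = c ^ f
        rw [← pow_mul, mul_comm, hn', z.2.2.2]
      · rw [pow_right_comm, hproot _ (congrArg Subtype.val w.2), one_pow]
      · have hw : (w.1 : G) ^ p ^ b = c ^ f := congrArg Subtype.val w.2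
        rw [← hn', ← pow_mul, show m' * (p ^ b * m) = p ^ b * (m * m') by ring, pow_mul, hw, pow_mul]
        exact hinv _ hc2
      · show ((w.1 : G) ^ m') ^ m = w.1
        rw [pow_right_comm]
        exact hinv _ (hproot _ (congrArg Subtype.val w.2))
    rw [hF]
    have key := pow_dvd_card_pow_eq_central hp b hcfc (s := j) (by rw [Subgroup.orderOf_mk]; exact hj)
    refine Dvd.dvd.trans ?_ (Nat.mul_dvd_mul (Nat.ordProj_dvd D.index p) key)
    rw [← pow_add]
    exact pow_dvd_pow p (by rcases le_total b vD with h | h <;> simp [← hvD, h] <;> omega)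

end Cfsg.Agent.PowEqOne
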