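/-
The coprime decomposition `g = y * z` with a condition on the first factor.
* `card_split_pred`
* `dvd_index_mul_card` : `u ∣ |G : C| * #{y ∈ C | y ^ u = 1}` for `u ∣ |G|`
-/
import Cfsg.Agent.Lib.PowEqOne.Basic

namespace Cfsg.Agent.PowEqOne

variable {G : Type*} [Group G] [Finite G]

theorem card_split_pred {q u : ℕ} (h : q.Coprime u) (P : G → Prop) (Q : G → Prop)
    (hPQ : ∀ g y z : G, y ^ q = 1 → z ^ u = 1 → Commute y z → y * z = g → (Q g ↔ P y))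
    [Fintype {y : G // y ^ q = 1 ∧ P y}] :
    Nat.card {g : G // g ^ (q * u) = 1 ∧ Q g} =
      ∑ y : {y : G // y ^ q = 1 ∧ P y}, Nat.card {z : Subgroup.centralizer ({(y : G)} : Set G) // z ^ u = 1} := by
  rw [← Nat.card_sigma]
  obtain ⟨e, f, hs⟩ := exists_split (G := G) h
  refine (Nat.card_congr ?_).symm
  refine
    { toFun := fun x => ⟨(x.1 : G) * (x.2.1 : G), ?_⟩
      invFun := fun g => ⟨⟨g.1 ^ e, (hs g.1 g.2.1).1,
          (hPQ g.1 _ _ (hs g.1 g.2.1).1 (hs g.1 g.2.1).2.1 (Commute.pow_pow_self g.1 e f) (hs g.1 g.2.1).2.2.1).mp g.2.2⟩,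
        ⟨⟨g.1 ^ f, mem_centralizer_iff_commute.mpr (Commute.pow_pow_self g.1 e f)⟩, Subtype.ext (hs g.1 g.2.1).2.1⟩⟩
      left_inv := ?_
      right_inv := fun g => Subtype.ext (hs g.1 g.2.1).2.2.1 }
  · have hc : Commute (x.1 : G) (x.2.1 : G) := mem_centralizer_iff_commute.mp x.2.1.2
    have hy : (x.2.1 : G) ^ u = 1 := congrArg Subtype.val x.2.2
    refine ⟨?_, (hPQ _ _ _ x.1.2.1 hy hc rfl).mpr x.1.2.2⟩
    rw [hc.mul_pow, pow_mul, x.1.2.1, one_pow, one_mul, mul_comm, pow_mul, hy, one_pow]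
  · rintro ⟨⟨y, hy, hPy⟩, ⟨⟨z, hz⟩, hzu⟩⟩
    have hc : Commute y z := mem_centralizer_iff_commute.mp hz
    have hz' : z ^ u = 1 := congrArg Subtype.val hzu
    have hg : (y * z) ^ (q * u) = 1 := by
      rw [hc.mul_pow, pow_mul, hy, one_pow, one_mul, mul_comm, pow_mul, hz', one_pow]
    obtain ⟨h1, h2⟩ := (hs (y * z) hg).2.2.2 y z hc hy hz' rfl
    have key : ∀ (y' z' : G) (p : y' ^ q = 1 ∧ P y') (q' : z' ∈ Subgroup.centralizer ({y'} : Set G))
        (r : (⟨z', q'⟩ : Subgroup.centralizer ({y'} : Set G)) ^ u = 1), y' = y → z' = z →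
        (⟨⟨y', p⟩, ⟨⟨z', q'⟩, r⟩⟩ :
          Σ w : {w : G // w ^ q = 1 ∧ P w}, {v : Subgroup.centralizer ({(w : G)} : Set G) // v ^ u = 1}) =
          ⟨⟨y, hy, hPy⟩, ⟨⟨z, hz⟩, hzu⟩⟩ := by
      intro y' z' p q' r e1 e2
      subst e1 e2
      rfl
    exact key _ _ _ _ _ h1 h2

theorem dvd_index_mul_card {u : ℕ} (hu : u ∣ Nat.card G) (C : Subgroup G) :
    u ∣ C.index * Nat.card {z : C // z ^ u = 1} := by
  have h1 : Nat.card {z : C // z ^ u = 1} = Nat.card {z : C // z ^ Nat.gcd u (Nat.card C) = 1} :=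
    Nat.card_congr (Equiv.subtypeEquivRight (fun z => by
      rw [← orderOf_dvd_iff_pow_eq_one, ← orderOf_dvd_iff_pow_eq_one]
      exact ⟨fun h => Nat.dvd_gcd h (orderOf_dvd_natCard z), fun h => h.trans (Nat.gcd_dvd_left _ _)⟩))
  have h2 : u ∣ C.index * Nat.gcd u (Nat.card C) := by
    rw [← Nat.gcd_mul_left]
    exact Nat.dvd_gcd (dvd_mul_left _ _) (by rw [mul_comm, C.card_mul_index]; exact hu)
  rw [h1]
  exact h2.trans (Nat.mul_dvd_mul_left _ (dvd_card_pow_eq_one (Nat.gcd_dvd_right _ _)))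

end Cfsg.Agent.PowEqOne
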